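import Cfsg.Agent.Lib.Bender.Full.CaseCommute.Kernel
import Cfsg.Agent.Lib.Bender.OddQuot.Field
import Mathlib.FieldTheory.Galois.Basic

/-!
# Commuting involutions: the semilinear action on the involutions

`exists_zpow_of_lonely`: an element fixing only the unit of a semilinear structure generates the field
automorphisms, so it gives the action of every element fixing the unit.  `involGrp H`: the elementary
two-group of the involutions of `H`.  If all two-elements centralize it, the image of `H` has odd order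
and `invCent H` supplements the pair.
-/

set_option autoImplicit false
set_option linter.style.haveILetI false
set_option linter.unusedSectionVars false

namespace CfsgLib.Bender.OddQuot.Semilin

universe u v

variable {M : Type u} [Group M] {E : Type v} [CommGroup E] {act : M →* MulAut E} {t : E}
  (S : Semilin act t)

theorem gal_zpowers_top {z : M} (hz : act z t = t) (hlon : ∀ v : E, act z v = v → v = 1 ∨ v = t) :
    Subgroup.zpowers (S.gal z) = ⊤ := by
  haveI : IsGalois (ZMod 2) S.F := inferInstance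
  set G0 := Subgroup.zpowers (S.gal z)
  have hff : IntermediateField.fixedField G0 = ⊥ := by
    refine le_bot_iff.1 fun x hx => ?_
    obtain ⟨v, rfl⟩ := S.e.surjective x
    rcases hlon v.toMul ((S.fixes_iff hz v.toMul).2 (hx ⟨S.gal z, Subgroup.mem_zpowers _⟩)) with e | e
    · have hv0 : S.e v = 0 := S.e_eq_zero.2 e
      rw [hv0]
      exact zero_mem _
    · have hv1 : S.e v = 1 := (congrArg (fun w : E => S.e (Additive.ofMul w)) e).trans S.et
      rw [hv1]
      exact one_mem _
  rw [← IntermediateField.fixingSubgroup_fixedField G0, hff]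
  exact IntermediateField.fixingSubgroup_bot

theorem exists_gal_zpow {z : M} (hz : act z t = t) (hlon : ∀ v : E, act z v = v → v = 1 ∨ v = t)
    (g : M) : ∃ i : ℤ, S.gal (g * (z ^ i)⁻¹) = 1 := by
  obtain ⟨i, hi⟩ := Subgroup.mem_zpowers_iff.1
    ((S.gal_zpowers_top hz hlon).ge (Subgroup.mem_top (S.gal g)))
  refine ⟨i, ?_⟩
  rw [map_mul, map_inv, map_zpow, hi, mul_inv_cancel]

theorem zpow_fix {z : M} (hz : act z t = t) (i : ℤ) : act (z ^ i) t = t := by
  rw [map_zpow]
  exact zpow_mem (show act z ∈ MulAction.stabilizer (MulAut E) t from hz) i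

include S in
theorem exists_zpow_of_lonely {z : M} (hz : act z t = t)
    (hlon : ∀ v : E, act z v = v → v = 1 ∨ v = t) {g : M} (hg : act g t = t) :
    ∃ i : ℤ, act g = act (z ^ i) := by
  obtain ⟨i, hi⟩ := S.exists_gal_zpow hz hlon g
  refine ⟨i, ?_⟩
  have hfix : act (g * (z ^ i)⁻¹) t = t := by
    rw [map_mul, map_inv, MulAut.mul_apply]
    have h1 : (act (z ^ i))⁻¹ t = t :=
      inv_mem (show act (z ^ i) ∈ MulAction.stabilizer (MulAut E) t from zpow_fix hz i)
    rw [h1, hg]
  have h2 := S.act_eq_one hfix hi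
  rwa [map_mul, map_inv, mul_inv_eq_one] at h2

/-- An element with trivial field automorphism fixing something is trivial. -/
theorem act_eq_one_of_fix {g : M} (hg : S.gal g = 1) {v : E} (hv : v ≠ 1) (hfix : act g v = v) :
    act g = 1 := by
  have h1 := S.apply g v
  rw [hfix, hg] at h1
  have hm : S.mult g = 1 :=
    mul_right_cancel₀ (fun e => hv (S.e_eq_zero.1 e)) ((one_mul _).trans h1).symm
  refine S.act_eq_one (Additive.ofMul.injective (S.e.injective ?_)) hg
  rw [← S.mult_eq, hm, S.et]

/-- Elements with trivial field automorphisms act commutingly. -/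
theorem act_mul_comm {a b : M} (ha : S.gal a = 1) (hb : S.gal b = 1) :
    act (a * b) = act (b * a) := by
  refine MulEquiv.ext fun v => Additive.ofMul.injective (S.e.injective ?_)
  rw [map_mul act, map_mul act, MulAut.mul_apply, MulAut.mul_apply, S.apply, S.apply, S.apply,
    S.apply, ha, hb]
  simp only [AlgEquiv.one_apply]
  ring

end CfsgLib.Bender.OddQuot.Semilin

namespace CfsgLib.Bender.Full

open Subgroup MulAction
open CfsgLib.Bender.OddQuot (Semilin exists_semilin)
open CfsgLib.Invol (invol_conj invol_mul_self invol_ne_one invol_iff)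

universe u

variable {G : Type u} [Group G] [Finite G] {H : Subgroup G}

/-- The subgroup generated by the involutions of `H`. -/
def involGrp (H : Subgroup G) : Subgroup G := closure (invols H)

omit [Finite G] in
theorem le_normalizer_involGrp (H : Subgroup G) : H ≤ normalizer (involGrp H : Set G) := by
  have key : ∀ g ∈ H, ∀ y ∈ involGrp H, g * y * g⁻¹ ∈ involGrp H := by
    intro g hg y hy
    have h1 : (involGrp H).map (MulAut.conj g).toMonoidHom ≤ involGrp H := by
      rw [involGrp, MonoidHom.map_closure]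
      refine Subgroup.closure_mono ?_
      rintro _ ⟨u, ⟨hu, huH⟩, rfl⟩
      exact ⟨invol_conj hu g, H.mul_mem (H.mul_mem hg huH) (H.inv_mem hg)⟩
    exact h1 ⟨y, hy, rfl⟩
  intro g hg
  exact mem_normalizer_iff.2 fun y => ⟨key g hg y, fun hy => by
    simpa [mul_assoc] using key g⁻¹ (inv_mem hg) _ hy⟩

/-- `H` acts on `involGrp H`. -/
def involAct (H : Subgroup G) : H →* MulAut (involGrp H) :=
  (involGrp H).normalizerMonoidHom.comp (Subgroup.inclusion (le_normalizer_involGrp H))

omit [Finite G] in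
theorem involAct_apply (g : H) (v : involGrp H) :
    ((involAct H g v : involGrp H) : G) = (g : G) * v * (g : G)⁻¹ := rfl

omit [Finite G] in
theorem involAct_eq_one {g : H} : involAct H g = 1 ↔ (g : G) ∈ invCent H := by
  constructor
  · intro hg
    refine ⟨g.2, mem_centralizer_iff.2 fun u hu => ?_⟩
    have h1 : ((involAct H g ⟨u, subset_closure hu⟩ : involGrp H) : G) = u := by rw [hg]; rfl
    rw [involAct_apply, mul_inv_eq_iff_eq_mul] at h1
    exact h1.symm
  · intro hg
    have hle : involGrp H ≤ centralizer ({(g : G)} : Set G) := (closure_le _).2 fun u hu =>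
      mem_centralizer_singleton_iff.2 (mem_centralizer_iff.1 hg.2 u hu)
    exact MulEquiv.ext fun v => Subtype.ext (by
      rw [involAct_apply, ← mem_centralizer_singleton_iff.1 (hle v.2), mul_inv_cancel_right]
      rfl)

omit [Finite G] in
theorem involAct_fix {g : H} {v : involGrp H} : involAct H g v = v ↔ Commute (g : G) v := by
  rw [← Subtype.coe_inj, involAct_apply, mul_inv_eq_iff_eq_mul]
  exact Iff.rfl

section Abelian

variable (hcomm : ∀ u ∈ H, ∀ v ∈ H, orderOf u = 2 → orderOf v = 2 → Commute u v)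
include hcomm

omit [Finite G] in
theorem involGrp_spec {g : G} (hg : g ∈ involGrp H) :
    g ∈ H ∧ g * g = 1 ∧ g ∈ centralizer (involGrp H : Set G) := by
  have hab : involGrp H ≤ centralizer (involGrp H : Set G) := by
    rw [involGrp, Subgroup.centralizer_closure, closure_le]
    intro u hu
    exact mem_centralizer_iff.2 fun v hv => (hcomm v hv.2 u hu.2 hv.1 hu.1).eq
  refine ⟨(closure_le H).2 (fun u hu => hu.2) hg, ?_, hab hg⟩
  induction hg using closure_induction with
  | mem g hg => exact invol_mul_self hg.1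
  | one => exact mul_one _
  | mul g k hg hk ihg ihk =>
    rw [show g * k * (g * k) = g * (k * g) * k by group,
      ← (mem_centralizer_iff.1 (hab hk) g hg : g * k = k * g),
      show g * (g * k) * k = g * g * (k * k) by group, ihg, ihk, one_mul]
  | inv g hg ih => rw [← mul_inv_rev, ih, inv_one]

omit [Finite G] in
theorem involGrp_invol {g : G} (hg : g ∈ involGrp H) (hg1 : g ≠ 1) : g ∈ invols H :=
  ⟨invol_iff.2 ⟨(involGrp_spec hcomm hg).2.1, hg1⟩, (involGrp_spec hcomm hg).1⟩

theorem isMulCommutative_involGrp : IsMulCommutative (involGrp H) :=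
  ⟨⟨fun a b => Subtype.ext (mem_centralizer_iff.1 (involGrp_spec hcomm b.2).2.2 a a.2)⟩⟩

end Abelian

namespace Setting

variable (h : Setting H) {x : G ⧸ H} (hx : x ≠ base H)
  (hcomm : ∀ u ∈ H, ∀ v ∈ H, orderOf u = 2 → orderOf v = 2 → Commute u v)
  {s : ℕ} [hs : Fact s.Prime] (hsm : ¬ s ∣ numInv H) {z : G} (hz : z ∈ pairStab (base H) x)
  (hzo : orderOf z = s) (hlon : ¬ Nonlonely (zpowers z))
include h hx

/-- The pair is transitive on the involutions of `H`. -/
theorem exists_pair_conj {t v : G} (ht : t ∈ invols H) (hv : v ∈ invols H) :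
    ∃ d ∈ pairStab (base H) x, d * t * d⁻¹ = v := by
  obtain ⟨w, hw, hwb⟩ := exists_swapper h.se hx.symm
  obtain ⟨d, -, hdb, hdx, hd⟩ := transitive_fixing h.se ⊤ (u := w) (mem_top _)
    (by rw [hwb]; exact hx) ht.1 (mem_top _) (smul_base.2 ht.2) hv.1 (mem_top _) (smul_base.2 hv.2)
  rw [hwb] at hdx
  exact ⟨d, ⟨mem_stabilizer_iff.2 hdb, mem_stabilizer_iff.2 hdx⟩, hd⟩

include hsm hz hzo hlon hs

/-- Only one involution of `H` commutes with the lonely element. -/
theorem exists_unique_invol : ∃ t ∈ invols H, Commute z t ∧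
    ∀ v ∈ invols H, Commute z v → v = t := by
  have hzp : IsPGroup s (zpowers z) := IsPGroup.of_card (n := 1) (by
    rw [Nat.card_zpowers, hzo, pow_one])
  have hzD : zpowers z ≤ pairStab (base H) x := zpowers_le.2 hz
  have h3 := h.three_of_not_dvd hsm hx.symm hzp hzD
  obtain ⟨t, ht, hta, htC⟩ := h.exists_invol_centralizing hzp
    (hzD.trans inf_le_left : base H ∈ fixSet (zpowers z) H) h3
  obtain ⟨u, hu, hux, huC⟩ := h.exists_invol_centralizing hzp
    (hzD.trans inf_le_right : x ∈ fixSet (zpowers z) H) h3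
  refine ⟨t, ⟨ht, smul_base.1 hta⟩, (mem_centralizer_zpowers.1 htC).symm, fun v hv hvz => ?_⟩
  exact h.eq_of_lonely (lonely_of_not_nonlonely hlon) hv.1 ht
    (mem_centralizer_zpowers.2 hvz.symm) htC (smul_base.2 hv.2) hta hu huC
    fun e => hx (CfsgLib.Invol.fixed_unique h.se hu hux e)

include hcomm

/-- If the two-elements centralize the involutions, `invCent H` supplements the pair. -/
theorem sup_of_two (htwo : ∀ g ∈ H, (∃ j : ℕ, g ^ 2 ^ j = 1) → g ∈ invCent H) :
    H ≤ invCent H ⊔ pairStab (base H) x := by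
  classical
  obtain ⟨t, ht, hzt, huniq⟩ := h.exists_unique_invol hx hsm hz hzo hlon
  set E := involGrp H with hE
  haveI : IsMulCommutative E := isMulCommutative_involGrp hcomm
  set X := (involAct H).range with hX
  have hXodd : Odd (Nat.card X) := by
    rw [← Nat.not_even_iff_odd, even_iff_two_dvd]
    intro h2
    haveI : Fact (Nat.Prime 2) := ⟨Nat.prime_two⟩
    obtain ⟨⟨a, g, rfl⟩, ha⟩ := exists_prime_orderOf_dvd_card' (G := X) 2 h2
    rw [← Subgroup.orderOf_coe] at ha
    replace ha : orderOf (involAct H g) = 2 := ha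
    obtain ⟨i, o, ho, hio⟩ := Nat.exists_eq_two_pow_mul_odd (orderOf_pos g).ne'
    have h1 : ((g ^ o : H) : G) ∈ invCent H := htwo _ (g ^ o).2 ⟨i, by
      rw [← coe_pow, ← pow_mul, mul_comm, ← hio, pow_orderOf_eq_one, coe_one]⟩
    rw [← involAct_eq_one, map_pow] at h1
    obtain ⟨k, rfl⟩ := ho
    have hsq : involAct H g ^ 2 = 1 := by rw [← ha, pow_orderOf_eq_one]
    rw [pow_succ, pow_mul, hsq, one_pow, one_mul] at h1
    rw [h1, orderOf_one] at ha
    omega
  set act : X →* MulAut E := X.subtype with hact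
  set t' : E := ⟨t, subset_closure ht⟩ with ht'
  have ht1 : t' ≠ 1 := fun e => invol_ne_one ht.1 (congrArg Subtype.val e)
  have hexp : ∀ v : E, v * v = 1 := fun v => Subtype.ext (involGrp_spec hcomm v.2).2.1
  have htrans : ∀ v : E, v ≠ 1 → ∃ m : X, act m t' = v := by
    intro v hv
    obtain ⟨d, hd, hdt⟩ := h.exists_pair_conj hx ht
      (involGrp_invol hcomm v.2 fun e => hv (Subtype.ext e))
    exact ⟨⟨involAct H ⟨d, pairStab_base_le H x hd⟩, _, rfl⟩, Subtype.ext hdt⟩
  letI : CommGroup E := { (E.toGroup : Group E) with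
    mul_comm := fun a b => mul_comm' a b }
  obtain ⟨S⟩ := exists_semilin (M := X) (E := E) hXodd hexp act ht1 htrans
  set zH : H := ⟨z, pairStab_base_le H x hz⟩ with hzH
  have hzfix : act ⟨involAct H zH, zH, rfl⟩ t' = t' := involAct_fix.2 hzt
  have hzlon : ∀ v : E, act ⟨involAct H zH, zH, rfl⟩ v = v → v = 1 ∨ v = t' := by
    intro v hv
    refine or_iff_not_imp_left.2 fun hv1 => Subtype.ext ?_
    exact huniq _ (involGrp_invol hcomm v.2 fun e => hv1 (Subtype.ext e)) (involAct_fix.1 hv)
  intro g hg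
  obtain ⟨d, hd, hdt⟩ := h.exists_pair_conj hx ht
    (v := g * t * g⁻¹) ⟨invol_conj ht.1 g, H.mul_mem (H.mul_mem hg ht.2) (H.inv_mem hg)⟩
  set c : H := ⟨d⁻¹ * g, H.mul_mem (H.inv_mem (pairStab_base_le H x hd)) hg⟩ with hc
  have hcfix : act ⟨involAct H c, c, rfl⟩ t' = t' := by
    refine involAct_fix.2 ?_
    refine mul_inv_eq_iff_eq_mul.1 ?_
    show d⁻¹ * g * t * (d⁻¹ * g)⁻¹ = t
    calc d⁻¹ * g * t * (d⁻¹ * g)⁻¹ = d⁻¹ * (g * t * g⁻¹) * d := by group
      _ = d⁻¹ * (d * t * d⁻¹) * d := by rw [hdt]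
      _ = t := by group
  obtain ⟨i, hi⟩ := S.exists_zpow_of_lonely hzfix hzlon hcfix
  have hi' : involAct H c = involAct H (zH ^ i) := by
    rw [map_zpow]
    exact hi.trans (map_zpow act _ i)
  have hk : ((c * (zH ^ i)⁻¹ : H) : G) ∈ invCent H :=
    involAct_eq_one.1 (by rw [map_mul, map_inv, hi', mul_inv_cancel])
  simp only [hc, hzH, coe_mul, coe_inv, SubgroupClass.coe_zpow] at hk
  rw [show g = d * (d⁻¹ * g * (z ^ i)⁻¹) * z ^ i by group]
  exact mul_mem (mul_mem (mem_sup_right hd) (mem_sup_left hk)) (mem_sup_right (zpow_mem hz i))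

end Setting

end CfsgLib.Bender.Full
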