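import Cfsg.Agent.Lib.Bender.Full.Descent
import Cfsg.Agent.Lib.Bender.Full.Lift
import Cfsg.Agent.Lib.Bender.Full.Cyclic.PiCentral

/-!
# Commuting involutions: the kernel of the action on the involutions

When the involutions of `H` commute, every subgroup of the centralizer `invCent H` of all of them in a
two-point stabilizer is nonlonely, so its Sylow subgroups are Sylow in normal subgroups of `H` inside
`invCent H`.  If `H = invCent H * D` then `H` is regular; this happens when `invCent H` meets `D`.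
-/

set_option autoImplicit false
set_option linter.style.haveILetI false
set_option linter.unusedSectionVars false

namespace CfsgLib.Bender.Full

open Subgroup MulAction
open CfsgLib.Coprime (IsSylowIn conjBy)
open CfsgLib.Bender.Transfer (twoGen)
open CfsgLib.Invol (invol_conj fixed_unique)

universe u

variable {G : Type u} [Group G] [Finite G] {H : Subgroup G}

/-- The involutions of `H`. -/
def invols (H : Subgroup G) : Set G := {u | orderOf u = 2 ∧ u ∈ H}

/-- The centralizer in `H` of its involutions. -/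
def invCent (H : Subgroup G) : Subgroup G := H ⊓ centralizer (invols H)

omit [Finite G] in
theorem le_normalizer_invCent (H : Subgroup G) : H ≤ normalizer (invCent H : Set G) := by
  have key : ∀ g ∈ H, ∀ k ∈ invCent H, g * k * g⁻¹ ∈ invCent H := by
    intro g hg k hk
    refine ⟨H.mul_mem (H.mul_mem hg hk.1) (H.inv_mem hg), mem_centralizer_iff.2 fun u hu => ?_⟩
    have h1 : g⁻¹ * u * g ∈ invols H :=
      ⟨by simpa using invol_conj hu.1 g⁻¹, H.mul_mem (H.mul_mem (H.inv_mem hg) hu.2) hg⟩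
    have h2 := mem_centralizer_iff.1 hk.2 _ h1
    calc u * (g * k * g⁻¹) = g * ((g⁻¹ * u * g) * k) * g⁻¹ := by group
      _ = g * (k * (g⁻¹ * u * g)) * g⁻¹ := by rw [h2]
      _ = g * k * g⁻¹ * u := by group
  intro g hg
  exact mem_normalizer_iff.2 fun k => ⟨key g hg k, fun hk => by
    simpa [mul_assoc] using key g⁻¹ (inv_mem hg) _ hk⟩

namespace Setting

variable (h : Setting H) {x : G ⧸ H} (hx : x ≠ base H)
  (hcomm : ∀ u ∈ H, ∀ v ∈ H, orderOf u = 2 → orderOf v = 2 → Commute u v)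
include h hx hcomm

theorem nonlonely_of_invCent {W : Subgroup G} (hW : W ≤ invCent H) : Nonlonely W := by
  obtain ⟨⟨⟨t, ht, htH⟩, ⟨u, hu, huH⟩, hne⟩⟩ :=
    Finite.one_lt_card_iff_nontrivial.1 h.toMCtx.one_lt_numInv
  have hcen : ∀ v, orderOf v = 2 → v ∈ H → v ∈ centralizer (W : Set G) := fun v hv hvH =>
    mem_centralizer_iff.2 fun w hw => (mem_centralizer_iff.1 (hW hw).2 v ⟨hv, hvH⟩).symm
  exact nonlonely_iff.2 ⟨t, u, ht, hu, fun e => hne (Subtype.ext e), hcomm t htH u huH ht hu,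
    hcen t ht htH, hcen u hu huH⟩

theorem three_of_invCent {W : Subgroup G} (hW : W ≤ invCent H ⊓ pairStab (base H) x) :
    2 < (fixSet W H).ncard :=
  three_of_nonlonely h.se (hW.trans inf_le_right) hx.symm
    (h.nonlonely_of_invCent hx hcomm (hW.trans inf_le_left))

/-- A non-trivial Sylow subgroup of the part in the pair is Sylow in a normal subgroup centralizing
the involutions. -/
theorem sylow_of_invCent {L : Subgroup G} (hLn : H ≤ normalizer (L : Set G)) (hL : L ≤ invCent H)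
    {q : ℕ} [hq : Fact q.Prime] {P : Subgroup G} (hP : IsSylowIn q P (L ⊓ pairStab (base H) x))
    (hP1 : P ≠ ⊥) : IsSylowIn q P L := by
  classical
  set D := pairStab (base H) x with hD
  have hPA : P ≤ invCent H ⊓ D := hP.1.trans (inf_le_inf_right _ hL)
  have hb : base H ∈ fixSet P H := hPA.trans (inf_le_right.trans inf_le_left)
  have hxP : x ∈ fixSet P H := hPA.trans (inf_le_right.trans inf_le_right)
  have hq2 : q ≠ 2 := by
    rintro rfl
    obtain ⟨k, hk⟩ := IsPGroup.iff_card.1 hP.isPGroup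
    have hk0 : k ≠ 0 := fun e => hP1 (card_eq_one.1 (by rw [hk, e, pow_zero]))
    exact Nat.not_even_iff_odd.2 (odd_pairStab h.se hx.symm)
      (even_iff_two_dvd.2 ((hk ▸ dvd_pow_self 2 hk0).trans (card_dvd_of_le (hPA.trans inf_le_right))))
  obtain ⟨T, hT, hPT⟩ := exists_sylowIn_ge (K := L) hP.isPGroup (hP.1.trans inf_le_left)
  by_cases hle : T ≤ P
  · exact le_antisymm hle hPT ▸ hT
  exfalso
  obtain ⟨t, htT, htN, htP⟩ := CfsgLib.Invol.exists_mem_normalizer_notMem hT.isPGroup hPT hle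
  set T1 := T ⊓ normalizer (P : Set G) with hT1
  have hT1p : IsPGroup q T1 := hT.isPGroup.to_le inf_le_left
  have hT1L : T1 ≤ L := inf_le_left.trans hT.1
  have hT1H : T1 ≤ H := hT1L.trans (hL.trans inf_le_left)
  obtain ⟨Pl, Dl⟩ := h.exists_localData hP.isPGroup hP1
    (h.nonlonely_of_invCent hx hcomm (hPA.trans inf_le_left)) hb (h.three_of_invCent hx hcomm hPA)
  obtain ⟨j, hj⟩ := Dl.ncard_fix_inter h hb hxP hx (R := ⊥) bot_le
    (show (⊥ : Subgroup G) ≤ stabilizer G x from bot_le)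
  set S : Set (G ⧸ H) := {z | z ∈ fixSet P H ∧ z ∈ fixSet ⊥ H ∧ z ≠ base H} with hS
  let Sa : SubMulAction T1 (G ⧸ H) :=
    { carrier := S
      smul_mem' := fun g z hz => ⟨smul_mem_fixSet g.2.2 hz.1, show (⊥ : Subgroup G) ≤ _ from bot_le,
        fun e => hz.2.2 (smul_left_cancel (g : G) (e.trans (smul_base.2 (hT1H g.2)).symm))⟩ }
  obtain ⟨⟨z, hz⟩, hzfix⟩ := hT1p.nonempty_fixed_point_of_prime_not_dvd_card Sa (by
    rw [show Nat.card Sa = S.ncard from Nat.card_coe_set_eq S, hj]
    exact fun hd => hq2 ((Nat.prime_dvd_prime_iff_eq hq.out Nat.prime_two).1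
      (hq.out.dvd_of_dvd_pow hd)))
  have hle1 : T1 ≤ L ⊓ pairStab (base H) z := le_inf hT1L fun g hg =>
    ⟨mem_stabilizer_iff.2 (smul_base.2 (hT1H hg)),
      mem_stabilizer_iff.2 (congrArg Subtype.val (hzfix ⟨g, hg⟩))⟩
  have hcardL : Nat.card ↥(L ⊓ pairStab (base H) z) = Nat.card ↥(L ⊓ D) := by
    obtain ⟨g, hg, hgx⟩ := h.toMCtx.toCore.transitive (a := base H) hx.symm hz.2.2.symm
    have hgH : g ∈ H := (stabilizer_base H).le hg
    have h1 : conjBy g (L ⊓ D) = L ⊓ pairStab (base H) z := by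
      rw [conjBy, Subgroup.map_inf _ _ _ (MulAut.conj g).injective]
      change conjBy g L ⊓ conjBy g D = _
      rw [CfsgLib.Coprime.conjBy_eq_self_iff.2 (hLn hgH), hD, Core.Ctx.conjBy_pairStab,
        smul_base.2 hgH, hgx]
    rw [← h1, CfsgLib.Coprime.card_conjBy]
  have hcard : Nat.card T1 ≤ Nat.card P := by
    rw [hP.2, ← hcardL]
    exact isPGroup_card_le hT1p hle1
  exact htP ((eq_of_le_of_card_ge (le_inf hPT le_normalizer) hcard).ge ⟨htT, htN⟩)

omit hcomm in
/-- If `invCent H` supplements the pair, it contains the two-elements. -/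
theorem twoGen_le_invCent (hsup : H ≤ invCent H ⊔ pairStab (base H) x) :
    twoGen H ≤ invCent H := by
  refine (closure_le _).2 ?_
  rintro g ⟨hg, i, hi⟩
  have hDn : pairStab (base H) x ≤ normalizer (invCent H : Set G) :=
    (pairStab_base_le H x).trans (le_normalizer_invCent H)
  obtain ⟨k, hk, d, hd, rfl⟩ := CfsgLib.Coprime.mem_sup_exists hDn (hsup hg)
  have key : ∀ n : ℕ, (k * d) ^ n * (d ^ n)⁻¹ ∈ invCent H := by
    intro n
    induction n with
    | zero => simp
    | succ n ih =>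
      have e : (k * d) ^ (n + 1) * (d ^ (n + 1))⁻¹ =
          ((k * d) ^ n * (d ^ n)⁻¹) * (d ^ n * k * (d ^ n)⁻¹) := by
        rw [pow_succ, pow_succ]; group
      rw [e]
      exact mul_mem ih ((mem_normalizer_iff.1 (pow_mem (hDn hd) n) k).1 hk)
  have h2 : d ^ 2 ^ i ∈ invCent H := by
    have := inv_mem (key (2 ^ i))
    rw [hi] at this
    simpa using this
  obtain ⟨n, hn⟩ := exists_pow_eq_self_of_coprime (x := d) (n := 2 ^ i)
    ((Nat.coprime_two_left.2 ((odd_pairStab h.se hx.symm).of_dvd_nat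
      (Subgroup.orderOf_dvd_natCard _ hd))).pow_left i)
  exact mul_mem hk (hn ▸ pow_mem h2 n)

/-- If `invCent H` supplements the pair, `H` is regular. -/
theorem regular_of_sup (hsup : H ≤ invCent H ⊔ pairStab (base H) x) : Regular H := by
  refine h.regular_of_step_from hx (L₀ := invCent H) ⟨inf_le_left, le_normalizer_invCent H,
    h.twoGen_le_invCent hx hsup, hsup⟩ fun L hL0 hL hne => ?_
  set D := pairStab (base H) x with hD
  have hodd : Odd (Nat.card ↥(L ⊓ D)) :=
    (odd_pairStab h.se hx.symm).of_dvd_nat (card_dvd_of_le inf_le_right)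
  obtain ⟨q, R, hq, hR, hRne⟩ := exists_sylow_not_le_commutator (Cfsg.Agent.S0205.result hodd) hne
  haveI := Fact.mk hq
  have hR1 : R ≠ ⊥ := fun e => hRne (e ▸ bot_le)
  have hq2 : q ≠ 2 := by
    rintro rfl
    obtain ⟨k, hk⟩ := IsPGroup.iff_card.1 hR.isPGroup
    have hk0 : k ≠ 0 := fun e => hR1 (card_eq_one.1 (by rw [hk, e, pow_zero]))
    exact Nat.not_even_iff_odd.2 hodd
      (even_iff_two_dvd.2 ((hk ▸ dvd_pow_self 2 hk0).trans (card_dvd_of_le hR.1)))
  refine canLower_of_controlled hL hq2 hR (h.sylow_of_invCent hx hcomm hL.norm hL0 hR hR1)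
    (fun y hy => subset_closure (Or.inl ⟨hy, h.controlled_of hx (hR.1 hy).2
      (hR.isPGroup.to_le (zpowers_le.2 hy)) (Or.inr (h.nonlonely_of_invCent hx hcomm
        (zpowers_le.2 (hL0 (hR.1 hy).1))))⟩)) hRne

/-- If `invCent H` meets the pair, it supplements it. -/
theorem sup_of_ne_bot (hA : invCent H ⊓ pairStab (base H) x ≠ ⊥) :
    H ≤ invCent H ⊔ pairStab (base H) x := by
  set D := pairStab (base H) x with hD
  set A := invCent H ⊓ D with hAdef
  obtain ⟨q, hq, hqA⟩ := Nat.exists_prime_and_dvd (n := Nat.card A)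
    (fun e => hA (card_eq_one.1 e))
  haveI := Fact.mk hq
  obtain ⟨P, hP, -⟩ := exists_sylowIn_ge (K := A) (P := ⊥) (IsPGroup.of_bot (p := q)) bot_le
  have hP1 : P ≠ ⊥ := fun e => by
    have h1 := hP.2
    rw [e, card_bot] at h1
    have := hq.factorization_pos_of_dvd Nat.card_pos.ne' hqA
    exact absurd h1.symm (Nat.one_lt_pow this.ne' hq.one_lt).ne'
  have hPK : IsSylowIn q P (invCent H) :=
    h.sylow_of_invCent hx hcomm (le_normalizer_invCent H) le_rfl hP hP1
  have hb : base H ∈ fixSet P H := hP.1.trans (inf_le_right.trans inf_le_left)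
  have hxP : x ∈ fixSet P H := hP.1.trans (inf_le_right.trans inf_le_right)
  have h3 := h.three_of_invCent hx hcomm hP.1
  obtain ⟨Pl, Dl⟩ := h.exists_localData hP.isPGroup hP1
    (h.nonlonely_of_invCent hx hcomm hPK.1) hb h3
  have hPl : Pl ≤ invCent H := by
    intro g hg
    refine ⟨smul_base.1 (mem_stabilizer_iff.1 (Dl.le hg).2), mem_centralizer_iff.2 fun u hu => ?_⟩
    have huP : u ∈ centralizer (P : Set G) := mem_centralizer_iff.2 fun w hw =>
      (mem_centralizer_iff.1 (hP.1 hw).1.2 u hu).symm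
    exact (Dl.commute_invol h hb hxP hx h3 hP.isPGroup hu.1 huP (smul_base.2 hu.2) hg).eq.symm
  intro g hg
  obtain ⟨k, hk, hkP⟩ := exists_conjBy_le (hP.isPGroup.map (MulAut.conj g).toMonoidHom)
    (show conjBy g P ≤ invCent H by
      rintro _ ⟨w, hw, rfl⟩
      exact (mem_normalizer_iff.1 (le_normalizer_invCent H hg) w).1 (hPK.1 hw)) hPK
  rw [CfsgLib.Coprime.conjBy_conjBy] at hkP
  have hkgP : conjBy (k * g) P = P :=
    eq_of_le_of_card_ge hkP (CfsgLib.Coprime.card_conjBy _ _).ge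
  set n := k * g with hn
  have hnN : n ∈ normalizer (P : Set G) := CfsgLib.Coprime.conjBy_eq_self_iff.1 hkgP
  have hnH : n ∈ H := H.mul_mem hk.1 hg
  obtain ⟨p, hp, hpx⟩ := Dl.trans x hxP hx (n • x) (smul_mem_fixSet hnN hxP)
    (fun e => hx (smul_left_cancel n (e.trans (smul_base.2 hnH).symm)))
  have hpn : p⁻¹ * n ∈ D := by
    refine ⟨mem_stabilizer_iff.2 (smul_base.2 (H.mul_mem (H.inv_mem (hPl hp).1) hnH)),
      mem_stabilizer_iff.2 ?_⟩
    rw [mul_smul, ← hpx, inv_smul_smul]
  rw [show g = k⁻¹ * p * (p⁻¹ * n) by rw [hn]; group]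
  exact mul_mem (mem_sup_left ((invCent H).mul_mem ((invCent H).inv_mem hk) (hPl hp)))
    (mem_sup_right hpn)

end Setting

end CfsgLib.Bender.Full
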